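import Groth.Prelude.Def_CohTop
import Mathlib.Topology.Sheaves.Skyscraper
import Mathlib.Topology.Sheaves.Flasque

/-!
Sheaves on discrete spaces are flasque; the unit for a surjective continuous map is mono.
-/

set_option autoImplicit false
set_option linter.style.haveILetI false
universe u

open CategoryTheory CategoryTheory.Limits TopologicalSpace Opposite

namespace Groth.Agent.GodementStep

/-- Every abelian sheaf on a space in which all sets are open is flasque. -/
theorem isFlasque_of_discrete {D : TopCat.{u}} (hD : ∀ s : Set D, IsOpen s) (G : CohTop.Ab D) :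
    TopCat.Sheaf.IsFlasque G := by
  refine ⟨fun {U V} i => (AddCommGrpCat.epi_iff_surjective _).2 fun s => ?_⟩
  let W : Opens D := ⟨(U.unop : Set D) \ V.unop, hD _⟩
  let cov : Bool → Opens D := fun b => if b then V.unop else W
  have hle : ∀ b, cov b ≤ U.unop := fun b => by
    cases b
    · exact fun z hz => hz.1
    · exact i.unop.le
  let sf : ∀ b, ToType (G.1.obj (op (cov b))) := fun b =>
    match b with
    | true => s
    | false => (0 : ToType (G.1.obj (op W)))
  have hc : TopCat.Presheaf.IsCompatible G.1 cov sf := by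
    intro a b
    have hempty : ∀ a b, a ≠ b → cov a ⊓ cov b = ⊥ := by
      rintro (_|_) (_|_) h
      · exact (h rfl).elim
      · exact bot_unique fun z hz => (hz.1.2 hz.2).elim
      · exact bot_unique fun z hz => (hz.2.2 hz.1).elim
      · exact (h rfl).elim
    by_cases h : a = b
    · subst h; rfl
    · have hz : IsZero (G.1.obj (op (cov a ⊓ cov b))) := by
        rw [hempty a b h]; exact (TopCat.Sheaf.isTerminalOfEmpty G).isZero
      exact (AddCommGrpCat.subsingleton_of_isZero hz).elim _ _
  have hcov : U.unop ≤ iSup cov := fun z hz => by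
    rw [Opens.mem_iSup]
    by_cases h : z ∈ V.unop
    · exact ⟨true, h⟩
    · exact ⟨false, hz, h⟩
  obtain ⟨t, ht, -⟩ := TopCat.Sheaf.existsUnique_gluing' (F := G) cov U.unop (fun b => homOfLE (hle b)) hcov sf hc
  exact ⟨t, ht true⟩

/-- For a surjective continuous map, `F ⟶ f_* f⁻¹ F` is a monomorphism. -/
theorem mono_unit_of_surjective {D X : TopCat.{u}} (f : D ⟶ X) (hf : Function.Surjective f)
    (F : CohTop.Ab X) :
    Mono ((TopCat.Sheaf.pullbackPushforwardAdjunction AddCommGrpCat.{u} f).unit.app F) := by
  classical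
  let adj := TopCat.Sheaf.pullbackPushforwardAdjunction AddCommGrpCat.{u} f
  suffices h : ∀ U : Opens X, Function.Injective ((adj.unit.app F).hom.app (op U)) by
    haveI : ∀ U : (Opens X)ᵒᵖ, Mono ((adj.unit.app F).hom.app U) :=
      fun U => (AddCommGrpCat.mono_iff_injective _).2 (h U.unop)
    haveI : Mono (adj.unit.app F).hom := NatTrans.mono_of_mono_app _
    exact (sheafToPresheaf _ _).mono_of_mono_map (show Mono (adj.unit.app F).hom by infer_instance)
  intro U s t hst
  refine TopCat.Presheaf.section_ext F U s t fun x hx => ?_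
  obtain ⟨d, rfl⟩ := hf x
  let A := TopCat.Presheaf.stalk F.obj (f d)
  let φ : F ⟶ (CohTop.push f).obj (skyscraperSheaf d A) :=
    ObjectProperty.homMk (show F.obj ⟶ (TopCat.Presheaf.pushforward _ f).obj (skyscraperPresheaf d A) from
      StalkSkyscraperPresheafAdjunctionAuxs.toSkyscraperPresheaf (X := X) (f d) (𝟙 A) ≫
        eqToHom (by unfold TopCat.Presheaf.pushforward; congr))
  have hfac : adj.unit.app F ≫ (CohTop.push f).map ((adj.homEquiv _ _).symm φ) = φ :=
    ((adj.homEquiv_unit ..).symm.trans (Equiv.apply_symm_apply _ φ))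
  have key : φ.hom.app (op U) s = φ.hom.app (op U) t := by
    rw [← hfac]
    exact congrArg (fun z => ((CohTop.push f).map ((adj.homEquiv _ _).symm φ)).hom.app (op U) z) hst
  simp [φ, StalkSkyscraperPresheafAdjunctionAuxs.toSkyscraperPresheaf, hx] at key
  exact (ConcreteCategory.bijective_of_isIso (eqToHom _)).1 key

end Groth.Agent.GodementStep
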